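import Cfsg.Agent.SuzukiTwo.PSUModel
import Cfsg.Prelude.Def_LieRecognition

set_option autoImplicit false
set_option linter.style.haveILetI false
set_option linter.unusedSectionVars false

/-!
The unitriangular 2-subgroup of `SU₃(2ⁿ)` is a Suzuki 2-group.
-/

namespace CfsgLib.SuzukiTwo

open Matrix CfsgLib.SUFusion

variable {K : Type*} [Field K] [Fintype K] [CharP K 2] {σ : K →+* K} (hσ2 : ∀ x, σ (σ x) = x)

include hσ2 in
theorem exists_u3 {g : iso σ 3} (hg : g ∈ uni σ 3) :
    ∃ (a b : K) (h : b + σ b + a * σ a = 0), g = u3 hσ2 a b h := by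
  have hrel := str_mat_mul g
  have e : mat g = !![1, mat g 0 1, mat g 0 2; 0, 1, mat g 1 2; 0, 0, 1] := by
    ext i j
    fin_cases i <;> fin_cases j <;> first
      | rfl
      | (refine (hg _ _ ?_).trans ?_ <;> simp [idG])
  rw [e, str_three] at hrel
  have h02 := congrFun (congrFun hrel 0) 2
  have h12 := congrFun (congrFun hrel 1) 2
  simp [Matrix.mul_apply, Fin.sum_univ_three] at h02 h12
  have hc : mat g 1 2 = -σ (mat g 0 1) := by linear_combination h12
  have hb : mat g 0 2 + σ (mat g 0 2) + mat g 0 1 * σ (mat g 0 1) = 0 := by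
    rw [hc, map_neg, hσ2] at h02
    linear_combination h02
  refine ⟨_, _, hb, mat_ext (e.trans ?_)⟩
  rw [hc]
  rfl

variable (σ) in
/-- The parameters of an element. -/
def par3 (g : iso σ 3) : K × K := (mat g 0 1, mat g 0 2)

theorem par3_u3 (a b : K) (h : b + σ b + a * σ a = 0) : par3 σ (u3 hσ2 a b h) = (a, b) := by
  simp [par3, u3, mat_mk]

theorem u3_mem (a b : K) (h : b + σ b + a * σ a = 0) : u3 hσ2 a b h ∈ uni σ 3 := by
  intro i j hij
  fin_cases i <;> fin_cases j <;> simp_all [u3, mat_mk, idG]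

include hσ2 in
theorem par3_mul {g g' : iso σ 3} (hg : g ∈ uni σ 3) (hg' : g' ∈ uni σ 3) :
    par3 σ (g * g') = ((par3 σ g).1 + (par3 σ g').1,
      (par3 σ g).2 + (par3 σ g').2 + (par3 σ g).1 * σ (par3 σ g').1) := by
  obtain ⟨a, b, h, rfl⟩ := exists_u3 hσ2 hg
  obtain ⟨a', b', h', rfl⟩ := exists_u3 hσ2 hg'
  simp only [par3_u3, par3, mat_mul]
  refine Prod.ext ?_ ?_ <;> simp [u3, mat_mk, Matrix.mul_apply, Fin.sum_univ_three]
  · ring
  · rw [CharTwo.neg_eq]; ring

include hσ2 in
theorem par3_ext {g g' : iso σ 3} (hg : g ∈ uni σ 3) (hg' : g' ∈ uni σ 3) (h : par3 σ g = par3 σ g') : g = g' := by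
  obtain ⟨a, b, hh, rfl⟩ := exists_u3 hσ2 hg
  obtain ⟨a', b', hh', rfl⟩ := exists_u3 hσ2 hg'
  rw [par3_u3, par3_u3, Prod.mk.injEq] at h
  obtain ⟨rfl, rfl⟩ := h
  rfl

/-- The fixed field of the involution has `q` elements and the trace onto it is surjective. -/
theorem fixed_field (q : ℕ) (hK : Fintype.card K = q ^ 2) (hσ : ∀ x, σ x = x ^ q) (hσne : σ ≠ RingHom.id K)
    (hσ2 : ∀ x, σ (σ x) = x) :
    Nat.card {x : K // σ x = x} = q ∧ ∀ c, σ c = c → ∃ b, b + σ b = c := by
  classical
  let T : K →+ K := AddMonoidHom.mk' (fun x => x + σ x) fun x y => by rw [map_add]; ring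
  have hq2 : 2 ≤ q := by
    by_contra h
    interval_cases q
    · simp at hK
    · have := Fintype.one_lt_card (α := K); simp [hK] at this
  have hker : ∀ x, x ∈ T.ker ↔ σ x = x := fun x => by
    rw [AddMonoidHom.mem_ker]
    show x + σ x = 0 ↔ _
    rw [CharTwo.add_eq_zero, eq_comm]
  have hle : Nat.card {x : K // σ x = x} ≤ q := by
    rw [Nat.card_eq_fintype_card, Fintype.card_subtype]
    let p : Polynomial K := Polynomial.X ^ q - Polynomial.X
    refine le_trans (Polynomial.card_le_degree_of_subset_roots (p := p) ?_)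
      (le_of_eq (FiniteField.X_pow_card_sub_X_natDegree_eq K hq2))
    intro x hx
    have hx' : σ x = x := (Finset.mem_filter.mp hx).2
    rw [Polynomial.mem_roots (FiniteField.X_pow_card_sub_X_ne_zero K hq2)]
    simp [p, Polynomial.IsRoot, ← hσ, hx']
  have hrange : T.range ≤ T.ker := by
    rintro _ ⟨x, rfl⟩
    rw [hker]
    show σ (x + σ x) = x + σ x
    rw [map_add, hσ2, add_comm]
  have hcard : Nat.card T.range * Nat.card T.ker = q ^ 2 := by
    rw [← hK, ← Nat.card_eq_fintype_card, AddSubgroup.card_eq_card_quotient_mul_card_addSubgroup T.ker,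
      Nat.card_congr (QuotientAddGroup.quotientKerEquivRange T).toEquiv]
  have hkc : Nat.card T.ker = Nat.card {x : K // σ x = x} := Nat.card_congr (Equiv.subtypeEquivRight hker)
  have hrle : Nat.card T.range ≤ Nat.card T.ker := AddSubgroup.card_le_of_le hrange
  have hkq : Nat.card T.ker = q := by
    rcases Nat.lt_or_ge (Nat.card T.ker) q with h | h
    · exfalso
      have h1 : Nat.card T.range * Nat.card T.ker < q * q :=
        Nat.mul_lt_mul'' (lt_of_le_of_lt hrle h) h
      rw [hcard, pow_two] at h1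
      omega
    · exact le_antisymm (hkc ▸ hle) h
  refine ⟨hkc ▸ hkq, fun c hc => ?_⟩
  have heq : T.range = T.ker := AddSubgroup.eq_of_le_of_card_ge hrange (by
    rw [hkq, pow_two] at hcard
    rw [hkq]
    exact le_of_eq (Nat.eq_of_mul_eq_mul_right (by omega) hcard).symm)
  obtain ⟨b, hb⟩ : c ∈ T.range := by rw [heq, hker]; exact hc
  exact ⟨b, hb⟩

include hσ2 in
/-- The unitriangular group of `SU₃(2ⁿ)`. -/
theorem uni_isSuzuki (q n : ℕ) (hn : 2 ≤ n) (hq : q = 2 ^ n) (hK : Fintype.card K = q ^ 2) (hσ : ∀ x, σ x = x ^ q)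
    (hσne : σ ≠ RingHom.id K) :
    Nat.card (uni σ 3) = q ^ 3 ∧ Nat.card (Subgroup.center (uni σ 3)) = q ∧ Cfsg.IsSuzukiTwoGroup (uni σ 3) := by
  classical
  haveI : Fact (Nat.Prime 2) := ⟨Nat.prime_two⟩
  obtain ⟨hF0, htr⟩ := fixed_field q hK hσ hσne hσ2
  have hnorm : ∀ a, σ (a * σ a) = a * σ a := fun a => by rw [map_mul, hσ2, mul_comm]
  have hchoose : ∀ a, ∃ b, b + σ b + a * σ a = 0 := fun a => by
    obtain ⟨b, hb⟩ := htr _ (hnorm a)
    exact ⟨b, by rw [hb, CharTwo.add_self_eq_zero]⟩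
  choose B hB using hchoose
  have hadd0 : ∀ a, ∀ c, σ c = c → B a + c + σ (B a + c) + a * σ a = 0 := fun a c hc => by
    rw [map_add, hc]
    linear_combination hB a + CharTwo.add_self_eq_zero c
  -- the parametrisation
  let e : uni σ 3 ≃ K × {x : K // σ x = x} :=
    { toFun := fun g => ((par3 σ g.1).1, ⟨(par3 σ g.1).2 + B (par3 σ g.1).1, by
        obtain ⟨a, b, h, hg⟩ := exists_u3 hσ2 g.2
        rw [hg, par3_u3]
        show σ (b + B a) = b + B a
        rw [map_add]
        linear_combination h + hB a - CharTwo.add_self_eq_zero (a * σ a) - CharTwo.add_self_eq_zero b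
          - CharTwo.add_self_eq_zero (B a)⟩)
      invFun := fun p => ⟨u3 hσ2 p.1 (B p.1 + p.2.1) (hadd0 _ _ p.2.2), u3_mem hσ2 _ _ _⟩
      left_inv := fun g => by
        apply Subtype.ext
        refine par3_ext hσ2 (Subtype.coe_prop _) g.2 ?_
        rw [par3_u3]
        refine Prod.ext rfl ?_
        show B _ + ((par3 σ g.1).2 + B _) = (par3 σ g.1).2
        linear_combination CharTwo.add_self_eq_zero (B (par3 σ g.1).1)
      right_inv := fun p => by
        refine Prod.ext ?_ (Subtype.ext ?_)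
        · simp [par3_u3]
        · simp only [par3_u3]
          linear_combination CharTwo.add_self_eq_zero (B p.1) }
  have hcard : Nat.card (uni σ 3) = q ^ 3 := by
    rw [Nat.card_congr e, Nat.card_prod, hF0, Nat.card_eq_fintype_card, hK]; ring
  let mkg : ∀ a b : K, b + σ b + a * σ a = 0 → uni σ 3 := fun a b h => ⟨u3 hσ2 a b h, u3_mem hσ2 a b h⟩
  have hmul : ∀ g g' : uni σ 3, par3 σ (g * g').1 = ((par3 σ g.1).1 + (par3 σ g'.1).1,
      (par3 σ g.1).2 + (par3 σ g'.1).2 + (par3 σ g.1).1 * σ (par3 σ g'.1).1) :=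
    fun g g' => par3_mul hσ2 g.2 g'.2
  have hext : ∀ g g' : uni σ 3, par3 σ g.1 = par3 σ g'.1 → g = g' := fun g g' h =>
    Subtype.ext (par3_ext hσ2 g.2 g'.2 h)
  have hone : par3 σ (1 : uni σ 3).1 = (0, 0) := by simp [par3, mat_one]
  have hcomm : ∀ g g' : uni σ 3, g * g' = g' * g ↔
      (par3 σ g.1).1 * σ (par3 σ g'.1).1 = (par3 σ g'.1).1 * σ (par3 σ g.1).1 := by
    intro g g'
    constructor
    · intro h
      have h' := congrArg (fun x : uni σ 3 => (par3 σ x.1).2) h
      simp only [hmul] at h'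
      linear_combination h'
    · intro h
      apply hext
      rw [hmul, hmul]
      exact Prod.ext (add_comm _ _) (by linear_combination h)
  have hcen : ∀ g : uni σ 3, g ∈ Subgroup.center (uni σ 3) ↔ (par3 σ g.1).1 = 0 := by
    intro g
    rw [Subgroup.mem_center_iff]
    constructor
    · intro h
      by_contra ha
      have h1 := (hcomm (mkg 1 (B 1) (hB 1)) g).mp (h _)
      simp only [mkg, par3_u3, map_one, one_mul, mul_one] at h1
      obtain ⟨x, hx⟩ : ∃ x, σ x ≠ x := by
        by_contra hall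
        simp only [not_exists, not_not] at hall
        exact hσne (RingHom.ext hall)
      have h2 := (hcomm (mkg x (B x) (hB x)) g).mp (h _)
      simp only [mkg, par3_u3] at h2
      rw [h1] at h2
      exact hx (mul_left_cancel₀ ha (by linear_combination -h2))
    · intro h g'
      rw [hcomm, h, map_zero, mul_zero, zero_mul]
  have hcardZ : Nat.card (Subgroup.center (uni σ 3)) = q := by
    have e' : Subgroup.center (uni σ 3) ≃ {x : K // σ x = x} :=
      { toFun := fun g => ⟨(par3 σ g.1.1).2, by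
          obtain ⟨a, b, h, hg⟩ := exists_u3 hσ2 g.1.2
          have ha := (hcen g.1).mp g.2
          rw [hg, par3_u3] at ha ⊢
          simp only at ha ⊢
          subst ha
          rw [map_zero, mul_zero, add_zero, CharTwo.add_eq_zero] at h
          exact h.symm⟩
        invFun := fun x => ⟨mkg 0 x.1 (by rw [x.2, map_zero, mul_zero, add_zero, CharTwo.add_self_eq_zero]),
          (hcen _).mpr (by simp [mkg, par3_u3])⟩
        left_inv := fun g => by
          apply Subtype.ext
          apply hext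
          simp only [mkg, par3_u3]
          exact Prod.ext ((hcen g.1).mp g.2).symm rfl
        right_inv := fun x => Subtype.ext (by simp [mkg, par3_u3]) }
    rw [Nat.card_congr e', hF0]
  have hinv : ∀ g : uni σ 3, g * g = 1 ↔ (par3 σ g.1).1 = 0 := by
    intro g
    constructor
    · intro h
      have h' := congrArg (fun x : uni σ 3 => (par3 σ x.1).2) h
      simp only [hmul, hone, CharTwo.add_self_eq_zero, zero_add, mul_eq_zero, map_eq_zero, or_self] at h'
      exact h'
    · intro h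
      apply hext
      rw [hmul, hone, h, zero_mul, add_zero, CharTwo.add_self_eq_zero, CharTwo.add_self_eq_zero]
  have hfix : ∀ g : uni σ 3, (par3 σ g.1).1 = 0 → σ (par3 σ g.1).2 = (par3 σ g.1).2 := by
    intro g ha
    obtain ⟨a, b, h, hg⟩ := exists_u3 hσ2 g.2
    rw [hg, par3_u3] at ha ⊢
    simp only at ha ⊢
    subst ha
    rw [map_zero, mul_zero, add_zero, CharTwo.add_eq_zero] at h
    exact h.symm
  have hq4 : 4 ≤ q := by rw [hq]; calc 4 = 2 ^ 2 := rfl
                                    _ ≤ 2 ^ n := Nat.pow_le_pow_right (by norm_num) hn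
  refine ⟨hcard, hcardZ, inferInstance, rad_isPGroup 2 _, ?_, ?_, ?_⟩
  · obtain ⟨x, hx⟩ : ∃ x, σ x ≠ x := by
      by_contra hall
      simp only [not_exists, not_not] at hall
      exact hσne (RingHom.ext hall)
    refine ⟨mkg 1 (B 1) (hB 1), mkg x (B x) (hB x), fun h => ?_⟩
    rw [hcomm] at h
    simp [mkg, par3_u3] at h
    exact hx h
  · obtain ⟨u, v, huv, hu, hv⟩ : ∃ u v : {x : K // σ x = x}, u ≠ v ∧ u.1 ≠ 0 ∧ v.1 ≠ 0 := by
      have h3 : 2 < (Finset.univ : Finset {x : K // σ x = x}).card := by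
        rw [Finset.card_univ, ← Nat.card_eq_fintype_card, hF0]; omega
      obtain ⟨u, v, w, -, -, -, huv, huw, hvw⟩ := Finset.two_lt_card_iff.mp h3
      by_cases hu : u.1 = 0
      · exact ⟨v, w, hvw, fun h => huv (Subtype.ext (hu.trans h.symm)), fun h => huw (Subtype.ext (hu.trans h.symm))⟩
      by_cases hv : v.1 = 0
      · exact ⟨u, w, huw, hu, fun h => hvw (Subtype.ext (hv.trans h.symm))⟩
      exact ⟨u, v, huv, hu, hv⟩
    have hz : ∀ x : {x : K // σ x = x}, x.1 + σ x.1 + 0 * σ 0 = 0 := fun x => by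
      rw [x.2, map_zero, mul_zero, add_zero, CharTwo.add_self_eq_zero]
    refine ⟨mkg 0 u.1 (hz u), mkg 0 v.1 (hz v), fun h => ?_, fun h => ?_, ?_, fun h => ?_, ?_⟩
    · have := congrArg (fun x : uni σ 3 => (par3 σ x.1).2) h
      simp [mkg, par3_u3] at this
      exact huv (Subtype.ext this)
    · have := congrArg (fun x : uni σ 3 => (par3 σ x.1).2) h
      simp only [mkg, par3_u3, hone] at this
      exact hu this
    · exact (hinv _).mpr (by simp [mkg, par3_u3])
    · have := congrArg (fun x : uni σ 3 => (par3 σ x.1).2) h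
      simp only [mkg, par3_u3, hone] at this
      exact hv this
    · exact (hinv _).mpr (by simp [mkg, par3_u3])
  -- the cyclic group of scalings
  let F0 : Subgroup Kˣ :=
    { carrier := {t | σ (t : K) = t}
      one_mem' := map_one σ
      mul_mem' := fun {a b} ha hb => by
        show σ ((a * b : Kˣ) : K) = _
        rw [Units.val_mul, map_mul, ha, hb]
      inv_mem' := fun {a} ha => by
        show σ ((a⁻¹ : Kˣ) : K) = _
        rw [Units.val_inv_eq_inv_val, map_inv₀, ha] }
  have hscale : ∀ (t : F0) (g : uni σ 3), ((t : Kˣ) : K) ^ 2 * (par3 σ g.1).2 + σ (((t : Kˣ) : K) ^ 2 * (par3 σ g.1).2)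
      + ((t : Kˣ) : K) * (par3 σ g.1).1 * σ (((t : Kˣ) : K) * (par3 σ g.1).1) = 0 := by
    intro t g
    obtain ⟨a, b, h, hg⟩ := exists_u3 hσ2 g.2
    rw [hg, par3_u3, map_mul, map_mul, map_pow, show σ ((t : Kˣ) : K) = ((t : Kˣ) : K) from t.2]
    linear_combination ((t : Kˣ) : K) ^ 2 * h
  let act : F0 → uni σ 3 → uni σ 3 := fun t g =>
    mkg (((t : Kˣ) : K) * (par3 σ g.1).1) (((t : Kˣ) : K) ^ 2 * (par3 σ g.1).2) (hscale t g)
  have hactp : ∀ (t : F0) (g : uni σ 3), par3 σ (act t g).1 = (((t : Kˣ) : K) * (par3 σ g.1).1, ((t : Kˣ) : K) ^ 2 * (par3 σ g.1).2) :=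
    fun t g => par3_u3 hσ2 _ _ (hscale t g)
  have hact1 : ∀ g, act 1 g = g := fun g => hext _ _ (by rw [hactp]; simp)
  have hactm : ∀ t s g, act (t * s) g = act t (act s g) := fun t s g => hext _ _ (by
    rw [hactp, hactp, hactp]
    simp only [Subgroup.coe_mul, Units.val_mul]
    refine Prod.ext ?_ ?_ <;> ring)
  let A : F0 →* MulAut (uni σ 3) :=
    { toFun := fun t =>
        { toFun := act t
          invFun := act t⁻¹
          left_inv := fun g => by rw [← hactm, inv_mul_cancel, hact1]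
          right_inv := fun g => by rw [← hactm, mul_inv_cancel, hact1]
          map_mul' := fun g g' => hext _ _ (by
            rw [hactp, hmul, hmul, hactp, hactp, map_mul, show σ ((t : Kˣ) : K) = ((t : Kˣ) : K) from t.2]
            refine Prod.ext ?_ ?_ <;> ring) }
      map_one' := MulEquiv.ext hact1
      map_mul' := fun t s => MulEquiv.ext (hactm t s) }
  refine ⟨A.range, isCyclic_of_surjective A.rangeRestrict A.rangeRestrict_surjective, ?_⟩
  intro x y hx hx2 hy hy2
  have hxa := (hinv x).mp hx2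
  have hya := (hinv y).mp hy2
  have hxb : (par3 σ x.1).2 ≠ 0 := fun h => hx (hext _ _ (by rw [hone]; exact Prod.ext hxa h))
  have hyb : (par3 σ y.1).2 ≠ 0 := fun h => hy (hext _ _ (by rw [hone]; exact Prod.ext hya h))
  obtain ⟨r, hr⟩ : ∃ r, r ^ 2 = (par3 σ y.1).2 / (par3 σ x.1).2 := by
    obtain ⟨r, hr⟩ := (frobeniusEquiv K 2).surjective ((par3 σ y.1).2 / (par3 σ x.1).2)
    exact ⟨r, by rw [← hr]; rfl⟩
  have hr0 : r ≠ 0 := fun h => by
    rw [h, zero_pow two_ne_zero] at hr
    exact div_ne_zero hyb hxb hr.symm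
  have hrfix : σ r = r := by
    apply frobenius_inj K 2
    show σ r ^ 2 = r ^ 2
    rw [← map_pow, hr, map_div₀, hfix x hxa, hfix y hya]
  let t : F0 := ⟨Units.mk0 r hr0, hrfix⟩
  have hone' : ∀ s : F0, A s x = y ↔ ((s : Kˣ) : K) ^ 2 = r ^ 2 := by
    intro s
    constructor
    · intro h
      have h' := congrArg (fun g : uni σ 3 => (par3 σ g.1).2) h
      change (par3 σ (act s x).1).2 = _ at h'
      rw [hactp] at h'
      rw [hr, eq_div_iff hxb]
      exact h'
    · intro h
      apply hext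
      show par3 σ (act s x).1 = _
      rw [hactp, hxa, mul_zero, h, hr, div_mul_cancel₀ _ hxb, ← hya]
  refine ⟨⟨A t, t, rfl⟩, (hone' t).mpr rfl, ?_⟩
  rintro ⟨_, s, rfl⟩ hs
  have hst : s = t := Subtype.ext (Units.ext (frobenius_inj K 2 ((hone' s).mp hs)))
  exact Subtype.ext (congrArg A hst)

end CfsgLib.SuzukiTwo
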