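import Mathlib

set_option autoImplicit false
set_option linter.style.haveILetI false

/-!
Two central extensions with elementary abelian quotient and matching squaring maps are isomorphic.
-/

open scoped commutatorElement

namespace CfsgLib.SuzukiTwo

variable {P A V : Type*} [Group P] [Group A] [Group V]

/-- Central extensions of the same group with corresponding squaring maps are isomorphic. -/
theorem iso_of_square [Finite P] [Finite A] (πP : P →* V) (πA : A →* V)
    (hPs : Function.Surjective πP) (hAs : Function.Surjective πA)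
    (hPc : πP.ker ≤ Subgroup.center P) (hAc : πA.ker ≤ Subgroup.center A)
    (e : πP.ker ≃* πA.ker) (he2 : ∀ z : πP.ker, z ^ 2 = 1)
    (hV : ∀ v : V, v ^ 2 = 1)
    (hq : ∀ (g : P) (a : A) (hg : g ^ 2 ∈ πP.ker), πP g = πA a → ((e ⟨g ^ 2, hg⟩ : πA.ker) : A) = a ^ 2) :
    Nonempty (P ≃* A) := by
  classical
  have hsqP : ∀ g : P, g ^ 2 ∈ πP.ker := fun g => by rw [MonoidHom.mem_ker, map_pow, hV]
  -- the fibre product
  let Γ : Subgroup (P × A) :=
    { carrier := {p | πP p.1 = πA p.2}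
      one_mem' := by simp
      mul_mem' := fun {a b} ha hb => by
        show πP (a.1 * b.1) = πA (a.2 * b.2)
        rw [map_mul, map_mul, ha, hb]
      inv_mem' := fun {a} ha => by
        show πP a.1⁻¹ = πA a.2⁻¹
        rw [map_inv, map_inv, ha] }
  let Δ : Subgroup (P × A) := (πP.ker.subtype.prod (πA.ker.subtype.comp e.toMonoidHom)).range
  have hΔmem : ∀ p : P × A, p ∈ Δ ↔ ∃ z : πP.ker, (z : P) = p.1 ∧ ((e z : πA.ker) : A) = p.2 := fun p => by
    constructor
    · rintro ⟨z, rfl⟩; exact ⟨z, rfl, rfl⟩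
    · rintro ⟨z, h1, h2⟩; exact ⟨z, Prod.ext h1 h2⟩
  have hΔΓ : Δ ≤ Γ := by
    rintro _ ⟨z, rfl⟩
    show πP (z : P) = πA ((e z : πA.ker) : A)
    rw [MonoidHom.mem_ker.mp z.2, MonoidHom.mem_ker.mp (e z).2]
  have hsq : ∀ p ∈ Γ, p ^ 2 ∈ Δ := fun p hp =>
    (hΔmem _).mpr ⟨⟨p.1 ^ 2, hsqP p.1⟩, rfl, hq p.1 p.2 (hsqP p.1) hp⟩
  have hcomm : ∀ p ∈ Γ, ∀ p' ∈ Γ, ⁅p, p'⁆ ∈ Δ := by
    intro p hp p' hp'
    rw [show ⁅p, p'⁆ = p ^ 2 * (p⁻¹ * p') ^ 2 * (p'⁻¹) ^ 2 by simp only [commutatorElement_def, pow_two]; group]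
    exact mul_mem (mul_mem (hsq _ hp) (hsq _ (mul_mem (inv_mem hp) hp'))) (hsq _ (inv_mem hp'))
  -- a maximal complement
  let E : Set (Subgroup (P × A)) := {M | Δ ≤ M ∧ M ≤ Γ ∧ ∀ a : A, ((1 : P), a) ∈ M → a = 1}
  have hΔE : Δ ∈ E := by
    refine ⟨le_rfl, hΔΓ, fun a ha => ?_⟩
    obtain ⟨z, hz1, hz2⟩ := (hΔmem _).mp ha
    obtain rfl : z = 1 := Subtype.ext hz1
    rw [map_one] at hz2
    exact hz2.symm
  obtain ⟨M, ⟨hΔM, hMΓ, hM1⟩, hmax⟩ := (Set.toFinite E).exists_maximalFor id _ ⟨Δ, hΔE⟩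
  have hfill : ∀ g : P, ∃ a : A, (g, a) ∈ M := by
    intro g
    obtain ⟨a0, ha0⟩ := hAs (πP g)
    have hγ : ((g, a0) : P × A) ∈ Γ := ha0.symm
    by_contra hnot
    simp only [not_exists] at hnot
    let γ : P × A := (g, a0)
    let M' : Subgroup (P × A) :=
      { carrier := {x | x ∈ M ∨ x * γ⁻¹ ∈ M}
        one_mem' := Or.inl (one_mem M)
        mul_mem' := fun {x y} hx hy => by
          have hconj : ∀ m ∈ M, γ * m * γ⁻¹ ∈ M := fun m hm => by
            rw [show γ * m * γ⁻¹ = ⁅γ, m⁆ * m by simp only [commutatorElement_def]; group]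
            exact mul_mem (hΔM (hcomm γ hγ m (hMΓ hm))) hm
          rcases hx with hx | hx <;> rcases hy with hy | hy
          · exact Or.inl (mul_mem hx hy)
          · exact Or.inr (by rw [mul_assoc]; exact mul_mem hx hy)
          · refine Or.inr ?_
            rw [show x * y * γ⁻¹ = x * γ⁻¹ * (γ * y * γ⁻¹) by group]
            exact mul_mem hx (hconj y hy)
          · refine Or.inl ?_
            rw [show x * y = x * γ⁻¹ * (γ * (y * γ⁻¹) * γ⁻¹) * γ ^ 2 by rw [pow_two]; group]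
            exact mul_mem (mul_mem hx (hconj _ hy)) (hΔM (hsq γ hγ))
        inv_mem' := fun {x} hx => by
          rcases hx with hx | hx
          · exact Or.inl (inv_mem hx)
          · refine Or.inr ?_
            have hxΓ : x ∈ Γ := by
              rw [show x = x * γ⁻¹ * γ by group]; exact mul_mem (hMΓ hx) hγ
            rw [show x⁻¹ * γ⁻¹ = (x ^ 2)⁻¹ * (x * γ⁻¹) by rw [pow_two]; group]
            exact mul_mem (inv_mem (hΔM (hsq x hxΓ))) hx }
    have hle : M ≤ M' := fun x hx => Or.inl hx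
    have hM'E : M' ∈ E := by
      refine ⟨hΔM.trans hle, ?_, fun a ha => ?_⟩
      · rintro x (hx | hx)
        · exact hMΓ hx
        · rw [show x = x * γ⁻¹ * γ by group]; exact mul_mem (hMΓ hx) hγ
      · rcases ha with ha | ha
        · exact hM1 a ha
        · exfalso
          have h := inv_mem ha
          apply hnot (a0 * a⁻¹)
          simpa [γ] using h
    exact hnot a0 (hmax (j := M') hM'E hle (Or.inr (by rw [mul_inv_cancel]; exact one_mem M) : γ ∈ M'))
  choose Φ hΦ using hfill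
  have huniq : ∀ (g : P) (a a' : A), (g, a) ∈ M → (g, a') ∈ M → a = a' := by
    intro g a a' h h'
    have := hM1 (a⁻¹ * a') (by simpa using mul_mem (inv_mem h) h')
    exact inv_mul_eq_one.mp this
  let ΦH : P →* A := MonoidHom.mk' Φ fun g g' =>
    huniq (g * g') _ _ (hΦ _) (by simpa using mul_mem (hΦ g) (hΦ g'))
  have hinj : Function.Injective ΦH := by
    rw [← MonoidHom.ker_eq_bot_iff, Subgroup.eq_bot_iff_forall]
    intro g hg
    have hgM : (g, (1 : A)) ∈ M := (MonoidHom.mem_ker.mp hg : Φ g = 1) ▸ hΦ g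
    have hgk : g ∈ πP.ker := by
      rw [MonoidHom.mem_ker, (hMΓ hgM : πP g = πA 1), map_one]
    have h2 := huniq g _ _ hgM (hΔM ((hΔmem _).mpr ⟨⟨g, hgk⟩, rfl, rfl⟩))
    have h3 : e ⟨g, hgk⟩ = 1 := Subtype.ext h2.symm
    exact congrArg Subtype.val (e.map_eq_one_iff.mp h3)
  have hcard : Nat.card P = Nat.card A := by
    rw [Subgroup.card_eq_card_quotient_mul_card_subgroup πP.ker,
      Subgroup.card_eq_card_quotient_mul_card_subgroup πA.ker, Nat.card_congr e.toEquiv,
      Nat.card_congr (QuotientGroup.quotientKerEquivOfSurjective πP hPs).toEquiv,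
      Nat.card_congr (QuotientGroup.quotientKerEquivOfSurjective πA hAs).toEquiv]
  exact ⟨MulEquiv.ofBijective ΦH ((Nat.bijective_iff_injective_and_card ΦH).mpr ⟨hinj, hcard⟩)⟩

end CfsgLib.SuzukiTwo
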