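import Cfsg.Agent.SUFusion.Closed

set_option autoImplicit false
set_option linter.style.haveILetI false

/-!
The map from the hyperbolic model onto the projective special unitary group.
-/

namespace CfsgLib.SUFusion

open Matrix

/-- The hyperbolic model covers `PSU_n(q)` with scalar kernel. -/
theorem exists_psu_hom {K : Type*} [Field K] [Fintype K] (q : ℕ) (hK : Fintype.card K = q ^ 2) (n : ℕ) (hn : 3 ≤ n)
    (σ : K →+* K) (hσ : ∀ x, σ x = x ^ q) (hσ2 : ∀ x, σ (σ x) = x) (hσne : σ ≠ RingHom.id K) :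
    ∃ f : iso σ n →* Cfsg.PSU n K q, Function.Surjective f ∧
      ∀ g : iso σ n, g ∈ f.ker ↔ ∃ c : K, mat g = c • (1 : Matrix (Fin n) (Fin n) K) := by
  classical
  -- the model
  set J : Matrix (Fin n) (Fin n) K := Matrix.of fun i j => if j = i.rev then 1 else 0 with hJdef
  have hJl : ∀ M : Matrix (Fin n) (Fin n) K, ∀ i j, (J * M) i j = M i.rev j := fun M i j => by
    rw [Matrix.mul_apply, Finset.sum_eq_single i.rev (fun z _ hz => by simp [hJdef, hz]) (by simp)]
    simp [hJdef]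
  have hJr : ∀ M : Matrix (Fin n) (Fin n) K, ∀ i j, (M * J) i j = M i j.rev := fun M i j => by
    rw [Matrix.mul_apply, Finset.sum_eq_single j.rev (fun z _ hz => ?_) (by simp)]
    · simp [hJdef]
    · have : j ≠ z.rev := fun e => hz (by rw [e, Fin.rev_rev])
      simp [hJdef, this]
  have hstr : ∀ M : Matrix (Fin n) (Fin n) K, str σ M = J * CfsgLib.Unitary.adj σ M * J := fun M => by
    ext i j; rw [hJr, hJl]; rfl
  have hJJ : J * J = 1 := by
    ext i j
    rw [hJl]
    by_cases h : i = j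
    · subst h; simp [hJdef]
    · rw [Matrix.one_apply_ne h]
      simp [hJdef, Ne.symm h]
  have hJadj : CfsgLib.Unitary.adj σ J = J := by
    ext i j
    have h : i = j.rev ↔ j = i.rev := ⟨fun e => by rw [e, Fin.rev_rev], fun e => by rw [e, Fin.rev_rev]⟩
    simp [CfsgLib.Unitary.adj, hJdef, apply_ite σ, h]
  have hJd : J.det ≠ 0 := fun h => by
    have := congrArg Matrix.det hJJ
    rw [Matrix.det_mul, h, zero_mul, Matrix.det_one] at this
    exact zero_ne_one this
  obtain ⟨P, hP⟩ := CfsgLib.Unitary.exists_congr σ hσ2 hσne n J hJadj hJd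
  have hPd : IsUnit P.det := by
    refine isUnit_iff_ne_zero.mpr fun h => hJd ?_
    rw [← hP, Matrix.det_mul, h, mul_zero]
  have hPi : P * P⁻¹ = 1 := Matrix.mul_nonsing_inv P hPd
  have hiP : P⁻¹ * P = 1 := Matrix.nonsing_inv_mul P hPd
  have hconjd : ∀ M : Matrix (Fin n) (Fin n) K, (P * M * P⁻¹).det = M.det := fun M => by
    rw [Matrix.det_mul, Matrix.det_mul, mul_comm, ← mul_assoc, ← Matrix.det_mul, hiP, Matrix.det_one, one_mul]
  have hfwd : ∀ g : iso σ n, CfsgLib.Unitary.IsU σ (P * mat g * P⁻¹) := fun g => by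
    have h1 : CfsgLib.Unitary.adj σ (mat g) * J * mat g = J := by
      have h := congrArg (fun M => J * M) (str_mat_mul g)
      simp only [hstr, ← Matrix.mul_assoc, hJJ, Matrix.one_mul, Matrix.mul_one] at h
      exact h
    show CfsgLib.Unitary.adj σ (P * mat g * P⁻¹) * (P * mat g * P⁻¹) = 1
    calc CfsgLib.Unitary.adj σ (P * mat g * P⁻¹) * (P * mat g * P⁻¹)
        = CfsgLib.Unitary.adj σ P⁻¹ * (CfsgLib.Unitary.adj σ (mat g) * (CfsgLib.Unitary.adj σ P * P) * mat g) * P⁻¹ := by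
          rw [CfsgLib.Unitary.adj_mul, CfsgLib.Unitary.adj_mul]; simp only [Matrix.mul_assoc]
      _ = CfsgLib.Unitary.adj σ P⁻¹ * (CfsgLib.Unitary.adj σ P * P) * P⁻¹ := by rw [hP, h1]
      _ = CfsgLib.Unitary.adj σ (P * P⁻¹) * (P * P⁻¹) := by
          rw [CfsgLib.Unitary.adj_mul]; simp only [Matrix.mul_assoc]
      _ = 1 := by rw [hPi, CfsgLib.Unitary.adj_one, Matrix.one_mul]
  let φ : iso σ n →* Cfsg.SU n K q :=
    { toFun := fun g => ⟨⟨P * mat g * P⁻¹, by rw [hconjd, mat_det]⟩,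
        (CfsgLib.Unitary.mem_SU_iff σ q hσ hσ2 _).mpr (hfwd g)⟩
      map_one' := Subtype.ext (Subtype.ext (by
        show P * mat (1 : iso σ n) * P⁻¹ = 1
        rw [mat_one, Matrix.mul_one, hPi]))
      map_mul' := fun g h => Subtype.ext (Subtype.ext (by
        show P * mat (g * h) * P⁻¹ = P * mat g * P⁻¹ * (P * mat h * P⁻¹)
        rw [mat_mul]
        calc P * (mat g * mat h) * P⁻¹ = P * mat g * (P⁻¹ * P) * mat h * P⁻¹ := by
              rw [hiP, Matrix.mul_one, Matrix.mul_assoc P (mat g)]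
          _ = _ := by simp only [Matrix.mul_assoc])) }
  have hφ : Function.Surjective φ := by
    intro M
    set M' : Matrix (Fin n) (Fin n) K := ((M : Matrix.SpecialLinearGroup (Fin n) K) : Matrix (Fin n) (Fin n) K)
    have hM : CfsgLib.Unitary.adj σ M' * M' = 1 := (CfsgLib.Unitary.mem_SU_iff σ q hσ hσ2 M.1).mp M.2
    have hd : (P⁻¹ * M' * P).det = 1 := by
      rw [Matrix.det_mul, Matrix.det_mul, mul_comm, ← mul_assoc, ← Matrix.det_mul, hPi, Matrix.det_one, one_mul]
      exact M.1.2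
    have hs : str σ (P⁻¹ * M' * P) * (P⁻¹ * M' * P) = 1 := by
      rw [hstr]
      calc J * CfsgLib.Unitary.adj σ (P⁻¹ * M' * P) * J * (P⁻¹ * M' * P)
          = J * (CfsgLib.Unitary.adj σ P * CfsgLib.Unitary.adj σ M' * CfsgLib.Unitary.adj σ P⁻¹) *
              (CfsgLib.Unitary.adj σ P * P) * (P⁻¹ * M' * P) := by
            rw [CfsgLib.Unitary.adj_mul, CfsgLib.Unitary.adj_mul, hP]; simp only [Matrix.mul_assoc]
        _ = J * CfsgLib.Unitary.adj σ P * CfsgLib.Unitary.adj σ M' * (CfsgLib.Unitary.adj σ (P * P⁻¹)) *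
              (P * P⁻¹) * (M' * P) := by
            rw [CfsgLib.Unitary.adj_mul σ P P⁻¹]; simp only [Matrix.mul_assoc]
        _ = J * CfsgLib.Unitary.adj σ P * (CfsgLib.Unitary.adj σ M' * M') * P := by
            rw [hPi, CfsgLib.Unitary.adj_one]; simp only [Matrix.mul_assoc, Matrix.one_mul]
        _ = 1 := by rw [hM, Matrix.mul_one, Matrix.mul_assoc, hP, hJJ]
    refine ⟨mk _ hd hs, Subtype.ext (Subtype.ext ?_)⟩
    show P * (P⁻¹ * M' * P) * P⁻¹ = M'
    rw [Matrix.mul_assoc P⁻¹ M' P, ← Matrix.mul_assoc P P⁻¹, hPi, Matrix.one_mul, Matrix.mul_assoc, hPi,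
      Matrix.mul_one]
  let f : iso σ n →* Cfsg.PSU n K q := (QuotientGroup.mk' (Subgroup.center (Cfsg.SU n K q))).comp φ
  have hf : Function.Surjective f := (QuotientGroup.mk'_surjective _).comp hφ
  have hkiff : ∀ g : iso σ n, g ∈ f.ker ↔ ∃ c : K, mat g = c • (1 : Matrix (Fin n) (Fin n) K) := by
    intro g
    have h := CfsgLib.Unitary.mk_pow_eq_one_iff q hK (n := n) (by omega) (φ g) 1
    rw [pow_one, pow_one] at h
    rw [MonoidHom.mem_ker]
    refine h.trans ⟨?_, ?_⟩
    · rintro ⟨c, hc⟩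
      refine ⟨c, ?_⟩
      have hc' : P * mat g * P⁻¹ = c • (1 : Matrix (Fin n) (Fin n) K) := hc
      calc mat g = P⁻¹ * (P * mat g * P⁻¹) * P := by
            rw [Matrix.mul_assoc P (mat g), ← Matrix.mul_assoc P⁻¹ P, hiP, Matrix.one_mul, Matrix.mul_assoc, hiP,
              Matrix.mul_one]
        _ = c • (1 : Matrix (Fin n) (Fin n) K) := by
            rw [hc', Matrix.mul_smul, Matrix.smul_mul, Matrix.mul_one, hiP]
    · rintro ⟨c, hc⟩
      refine ⟨c, ?_⟩
      show P * mat g * P⁻¹ = _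
      rw [hc, Matrix.mul_smul, Matrix.smul_mul, Matrix.mul_one, hPi]
  exact ⟨f, hf, hkiff⟩

end CfsgLib.SUFusion
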